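import Groth.Agent.Depth.FlatLocal
import Groth.Agent.EtaleLib.Reduced
import Mathlib

/-!
# Local rings along étale morphisms
-/

open CategoryTheory CategoryTheory.Limits AlgebraicGeometry IsLocalRing
open scoped TensorProduct

universe u

set_option backward.isDefEq.respectTransparency false
set_option backward.defeqAttrib.useBackward true

namespace Groth.Agent.EtStalk

variable {X Y : Scheme.{u}} (f : X ⟶ Y) [AlgebraicGeometry.Etale f]

theorem map_maximalIdeal (x : X) :
    (maximalIdeal (Y.presheaf.stalk (f x))).map (f.stalkMap x).hom =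
      maximalIdeal (X.presheaf.stalk x) := by
  algebraize [(f.stalkMap x).hom]
  have : IsLocalHom (algebraMap (Y.presheaf.stalk (f x)) (X.presheaf.stalk x)) :=
    inferInstanceAs <| IsLocalHom (f.stalkMap x).hom
  have : Algebra.EssFiniteType (Y.presheaf.stalk (f x)) (X.presheaf.stalk x) := by
    rw [← RingHom.essFiniteType_algebraMap, RingHom.algebraMap_toAlgebra]
    exact LocallyOfFiniteType.stalkMap f x
  have : Algebra.FormallyUnramified (Y.presheaf.stalk (f x)) (X.presheaf.stalk x) := by
    rw [← RingHom.formallyUnramified_algebraMap, RingHom.algebraMap_toAlgebra]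
    exact FormallyUnramified.stalkMap f x
  exact Algebra.FormallyUnramified.map_maximalIdeal

theorem dim_and_regular [IsLocallyNoetherian Y] (x : X) :
    ringKrullDim (X.presheaf.stalk x) = ringKrullDim (Y.presheaf.stalk (f x)) ∧
      (IsRegularLocalRing (X.presheaf.stalk x) ↔ IsRegularLocalRing (Y.presheaf.stalk (f x))) := by
  have : IsLocallyNoetherian X := LocallyOfFiniteType.isLocallyNoetherian f
  algebraize [(f.stalkMap x).hom]
  have : Module.Flat (Y.presheaf.stalk (f x)) (X.presheaf.stalk x) := Flat.stalkMap f x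
  exact ⟨Depth.ringKrullDim_eq_of_map_maximalIdeal _ _ (map_maximalIdeal f x),
    Depth.isRegularLocalRing_iff_of_map_maximalIdeal _ _ (map_maximalIdeal f x)⟩

/-- A localization of an étale algebra at a prime over a prime with reduced local ring is
reduced. -/
theorem isReduced_localization {A B : Type u} [CommRing A] [CommRing B] [Algebra A B]
    [Algebra.Etale A B] (p : Ideal A) [p.IsPrime] (q : Ideal B) [q.IsPrime]
    (hqp : q.comap (algebraMap A B) = p) {S : Type u} [CommRing S] [Algebra B S]
    [IsLocalization.AtPrime S q] [_root_.IsReduced (Localization.AtPrime p)] :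
    _root_.IsReduced S := by
  let B' := B ⊗[A] Localization.AtPrime p
  have : _root_.IsReduced (Localization.AtPrime p ⊗[A] B) :=
    EtaleLib.isReduced_of_etale (A := Localization.AtPrime p) _
  have : _root_.IsReduced B' :=
    isReduced_of_injective (Algebra.TensorProduct.comm A B (Localization.AtPrime p)).toRingHom
      (Algebra.TensorProduct.comm A B (Localization.AtPrime p)).injective
  have hloc : IsLocalization (Algebra.algebraMapSubmonoid B p.primeCompl) B' := inferInstance
  refine ⟨fun z ⟨n, hn⟩ => ?_⟩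
  obtain ⟨a, s, rfl⟩ := IsLocalization.exists_mk'_eq q.primeCompl z
  rw [← IsLocalization.mk'_pow, IsLocalization.mk'_eq_zero_iff] at hn
  obtain ⟨t, ht⟩ := hn
  have h0 : algebraMap B B' (t * a) = 0 := by
    refine IsNilpotent.eq_zero ⟨n + 1, ?_⟩
    rw [← map_pow, mul_pow, pow_succ, pow_succ a]
    rw [show (t : B) ^ n * t * (a ^ n * a) = (t : B) ^ n * a * ((t : B) * a ^ n) by ring, ht,
      mul_zero, map_zero]
  obtain ⟨⟨_, m, hm, rfl⟩, hm0⟩ :=
    (IsLocalization.map_eq_zero_iff (Algebra.algebraMapSubmonoid B p.primeCompl) B' _).mp h0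
  refine (IsLocalization.mk'_eq_zero_iff _ _).mpr
    ⟨⟨algebraMap A B m * t, fun h => ?_⟩, by rw [mul_assoc]; exact hm0⟩
  refine (‹q.IsPrime›.mem_or_mem h).elim (fun h' => hm ?_) t.2
  rw [← hqp]; exact h'

theorem isReduced_iff (x : X) :
    _root_.IsReduced (X.presheaf.stalk x) ↔ _root_.IsReduced (Y.presheaf.stalk (f x)) := by
  constructor
  · intro h
    algebraize [(f.stalkMap x).hom]
    have : Module.Flat (Y.presheaf.stalk (f x)) (X.presheaf.stalk x) := Flat.stalkMap f x
    have : IsLocalHom (algebraMap (Y.presheaf.stalk (f x)) (X.presheaf.stalk x)) :=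
      inferInstanceAs <| IsLocalHom (f.stalkMap x).hom
    have : Module.FaithfullyFlat (Y.presheaf.stalk (f x)) (X.presheaf.stalk x) :=
      Module.FaithfullyFlat.of_flat_of_isLocalHom
    exact isReduced_of_injective (algebraMap (Y.presheaf.stalk (f x)) (X.presheaf.stalk x))
      (FaithfulSMul.algebraMap_injective _ _)
  · intro h
    obtain ⟨_, ⟨V, hV, rfl⟩, hxV, -⟩ :=
      Y.isBasis_affineOpens.exists_subset_of_mem_open (Set.mem_univ (f x)) isOpen_univ
    obtain ⟨_, ⟨U, hU, rfl⟩, hxU, hle⟩ :=
      X.isBasis_affineOpens.exists_subset_of_mem_open (show x ∈ f ⁻¹ᵁ V from hxV) (f ⁻¹ᵁ V).2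
    have het : (f.appLE V U hle).hom.Etale :=
      f.etale_appLE hV hU hle
    algebraize [(f.appLE V U hle).hom]
    let p := (hV.primeIdealOf ⟨f x, hxV⟩).asIdeal
    let q := (hU.primeIdealOf ⟨x, hxU⟩).asIdeal
    letI := TopCat.Presheaf.algebra_section_stalk X.presheaf (⟨x, hxU⟩ : U)
    have := hU.isLocalization_stalk ⟨x, hxU⟩
    letI := TopCat.Presheaf.algebra_section_stalk Y.presheaf (⟨f x, hxV⟩ : V)
    have := hV.isLocalization_stalk ⟨f x, hxV⟩
    have hqp : q.comap (algebraMap Γ(Y, V) Γ(X, U)) = p := by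
      show q.comap (f.appLE V U hle).hom = p
      rw [← IsLocalization.AtPrime.comap_maximalIdeal (X.presheaf.stalk x) q,
        ← IsLocalization.AtPrime.comap_maximalIdeal (Y.presheaf.stalk (f x)) p,
        ← ((local_hom_TFAE (f.stalkMap x).hom).out 0 4 rfl rfl).mp (inferInstanceAs (IsLocalHom (f.stalkMap x).hom)),
        Ideal.comap_comap, Ideal.under_def, Ideal.comap_comap]
      congr 1
      exact congrArg CommRingCat.Hom.hom (show f.appLE V U hle ≫ X.presheaf.germ U x hxU =
        Y.presheaf.germ V (f x) hxV ≫ f.stalkMap x by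
          rw [Scheme.Hom.germ_stalkMap, Scheme.Hom.appLE, Category.assoc, X.presheaf.germ_res'])
    let e := (IsLocalization.algEquiv p.primeCompl (Localization.AtPrime p) (Y.presheaf.stalk (f x)))
    have : _root_.IsReduced (Localization.AtPrime p) :=
      isReduced_of_injective e.toRingEquiv.toRingHom e.injective
    exact isReduced_localization p q hqp

end Groth.Agent.EtStalk
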